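import Cfsg.Agent.H771.IFx.OddB

/-!
# S5719 (helper771): `PSL₃(q)`: the cell `CellsPSL.three`
-/

set_option autoImplicit false
set_option linter.unusedSectionVars false

namespace Cfsg.Agent.H771.IFx

open Matrix Subgroup Cfsg.Agent.H209.Fxy

variable {F : Type*} [Field F] [Finite F]

/-- two linear forms are nonzero at a common vector -/
theorem two_forms {p r : Fin 3 → F} (hp : p ≠ 0) (hr : r ≠ 0) : ∃ y : Fin 3 → F, p ⬝ᵥ y ≠ 0 ∧ r ⬝ᵥ y ≠ 0 := by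
  obtain ⟨i, hi⟩ := exists_ne hp
  obtain ⟨j, hj⟩ := exists_ne hr
  have e : ∀ (p : Fin 3 → F) (i : Fin 3), p ⬝ᵥ Pi.single i 1 = p i := fun p i => by rw [dotProduct_single, mul_one]
  by_cases h1 : r i = 0
  · by_cases h2 : p j = 0
    · refine ⟨Pi.single i 1 + Pi.single j 1, ?_, ?_⟩
      · rw [dotProduct_add, e, e, h2, add_zero]
        exact hi
      · rw [dotProduct_add, e, e, h1, zero_add]
        exact hj
    · exact ⟨Pi.single j 1, by rwa [e], by rwa [e]⟩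
  · exact ⟨Pi.single i 1, by rwa [e], by rwa [e]⟩

variable {A : Subgroup (ProjectiveSpecialLinearGroup (Fin 3) F)}
  {Γ : Subgroup (MulAut (ProjectiveSpecialLinearGroup (Fin 3) F))}

/-- different points and different lines -/
theorem lemA (hK : ∀ {a f : Fin 3 → F}, IA A a f → KA A a f) (hne : A ≠ ⊤) {a f a' f' : Fin 3 → F} (ha : IA A a f)
    (ha' : IA A a' f') : a = (f' ⬝ᵥ a) • a' ∨ f = (f ⬝ᵥ a') • f' := by
  by_contra hcon
  push Not at hcon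
  obtain ⟨h1, h2⟩ := hcon
  have e := ha.fst
  have e' := ha'.fst
  have E : f 0 * a 0 + f 1 * a 1 + f 2 * a 2 = 1 := by simpa [dotProduct, Fin.sum_univ_three] using e
  have E' : f' 0 * a' 0 + f' 1 * a' 1 + f' 2 * a' 2 = 1 := by simpa [dotProduct, Fin.sum_univ_three] using e'
  have X : f ⬝ᵥ a' = f 0 * a' 0 + f 1 * a' 1 + f 2 * a' 2 := by simp [dotProduct, Fin.sum_univ_three]
  have Y : f' ⬝ᵥ a = f' 0 * a 0 + f' 1 * a 1 + f' 2 * a 2 := by simp [dotProduct, Fin.sum_univ_three]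
  have hp : (![f 1 * f' 2 - f 2 * f' 1, f 2 * f' 0 - f 0 * f' 2, f 0 * f' 1 - f 1 * f' 0] : Fin 3 → F) ≠ 0 := by
    intro h0
    apply h2
    have c0 := congrFun h0 0
    have c1 := congrFun h0 1
    have c2 := congrFun h0 2
    simp at c0 c1 c2
    ext i
    rw [Pi.smul_apply, smul_eq_mul, X]
    fin_cases i
    · simp
      linear_combination -f 0 * E' + c2 * a' 1 - c1 * a' 2
    · simp
      linear_combination -f 1 * E' - c2 * a' 0 + c0 * a' 2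
    · simp
      linear_combination -f 2 * E' + c1 * a' 0 - c0 * a' 1
  have hr : a - (f' ⬝ᵥ a) • a' ≠ 0 := fun h0 => h1 (sub_eq_zero.1 h0)
  obtain ⟨y, hy1, hy2⟩ := two_forms hp hr
  have Y1 : (f 1 * f' 2 - f 2 * f' 1) * y 0 + (f 2 * f' 0 - f 0 * f' 2) * y 1 + (f 0 * f' 1 - f 1 * f' 0) * y 2 ≠ 0 := by
    intro h0
    apply hy1
    simp [dotProduct, Fin.sum_univ_three]
    linear_combination h0
  have Y2 : (a 0 - (f' 0 * a 0 + f' 1 * a 1 + f' 2 * a 2) * a' 0) * y 0 +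
      (a 1 - (f' 0 * a 0 + f' 1 * a 1 + f' 2 * a 2) * a' 1) * y 1 +
      (a 2 - (f' 0 * a 0 + f' 1 * a 1 + f' 2 * a 2) * a' 2) * y 2 ≠ 0 := by
    intro h0
    apply hy2
    rw [dotProduct, Fin.sum_univ_three]
    simp only [Pi.sub_apply, Pi.smul_apply, smul_eq_mul, Y]
    linear_combination h0
  let v : Fin 3 → F := ![f' 1 * y 2 - f' 2 * y 1, f' 2 * y 0 - f' 0 * y 2, f' 0 * y 1 - f' 1 * y 0]
  let ψ : Fin 3 → F := ![a' 1 * v 2 - a' 2 * v 1, a' 2 * v 0 - a' 0 * v 2, a' 0 * v 1 - a' 1 * v 0]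
  have hf'v : f' ⬝ᵥ v = 0 := by
    simp [v, dotProduct, Fin.sum_univ_three]
    ring
  have hψa' : ψ ⬝ᵥ a' = 0 := by
    simp [v, ψ, dotProduct, Fin.sum_univ_three]
    ring
  have hψv : ψ ⬝ᵥ v = 0 := by
    simp [v, ψ, dotProduct, Fin.sum_univ_three]
    ring
  have hψa : ψ ⬝ᵥ a ≠ 0 := by
    intro h0
    apply Y2
    simp [v, ψ, dotProduct, Fin.sum_univ_three] at h0
    linear_combination -h0 - E' * (a 0 * y 0 + a 1 * y 1 + a 2 * y 2)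
  have hfv : f ⬝ᵥ v ≠ 0 := by
    intro h0
    apply Y1
    simp [v, dotProduct, Fin.sum_univ_three] at h0
    linear_combination h0
  obtain ⟨hh, hk⟩ := (hK ha').ta hf'v hψa' hψv
  have h3 := ha.conj hk
  have hh' : ψ ⬝ᵥ (-v) = 0 := by rw [dotProduct_neg, hψv, neg_zero]
  rw [tr_inv hh hh', tr_coe, tr_coe, add_mulVec, one_mulVec, vecMulVec_mulVec, vecMul_add, vecMul_one,
    vecMul_vecMulVec, dotProduct_neg] at h3
  have h4 : (MulOpposite.op (ψ ⬝ᵥ a) • v : Fin 3 → F) = (ψ ⬝ᵥ a) • v := by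
    ext i
    simp [mul_comm]
  rw [h4] at h3
  refine hne (gp (hK ha) (hK h3) ha.fst h3.fst ?_)
  rw [dotProduct_add, dotProduct_smul, add_dotProduct, smul_dotProduct, e, smul_eq_mul, smul_eq_mul]
  intro h0
  have h5 : ((f ⬝ᵥ v) * (ψ ⬝ᵥ a)) ^ 2 = 0 := by linear_combination -h0
  exact mul_ne_zero hfv hψa (pow_eq_zero_iff two_ne_zero |>.1 h5)

theorem sg_eq {a f a' f' : Fin 3 → F} (h : f ⬝ᵥ a = 1) (h' : f' ⬝ᵥ a' = 1) (e : vecMulVec a f = vecMulVec a' f') :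
    sg a f h = sg a' f' h' := by
  apply sl_ext
  rw [sg_coe, sg_coe, e]

/-- a basis adapted to an antiflag -/
theorem exists_basis {a f : Fin 3 → F} (h : f ⬝ᵥ a = 1) :
    ∃ b g w k : Fin 3 → F, g ⬝ᵥ b = 1 ∧ g ⬝ᵥ a = 0 ∧ f ⬝ᵥ b = 0 ∧ f ⬝ᵥ w = 0 ∧ g ⬝ᵥ w = 0 ∧ k ⬝ᵥ a = 0 ∧ k ⬝ᵥ b = 0 ∧
      (∀ μ : Fin 3 → F, μ = (f ⬝ᵥ μ) • a + (g ⬝ᵥ μ) • b + (k ⬝ᵥ μ) • w) ∧
      (∀ ψ : Fin 3 → F, ψ = (ψ ⬝ᵥ a) • f + (ψ ⬝ᵥ b) • g + (ψ ⬝ᵥ w) • k) := by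
  obtain ⟨G, hG1, hG2⟩ := exists_frame h
  let p : Fin 3 → Fin 3 → F := fun i => (G : Matrix (Fin 3) (Fin 3) F) *ᵥ Pi.single i 1
  let r : Fin 3 → Fin 3 → F := fun k => Pi.single k 1 ᵥ*
    ((G⁻¹ : SpecialLinearGroup (Fin 3) F) : Matrix (Fin 3) (Fin 3) F)
  have hrp : ∀ k i, r k ⬝ᵥ p i = if k = i then 1 else 0 := by
    intro k i
    rw [conj_dot G, single_dotProduct, one_mul, Pi.single_apply]
  have hp0 : p 0 = a := hG1
  have hr0 : r 0 = f := hG2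
  have hv : ∀ μ : Fin 3 → F, μ = (r 0 ⬝ᵥ μ) • p 0 + (r 1 ⬝ᵥ μ) • p 1 + (r 2 ⬝ᵥ μ) • p 2 := by
    intro μ
    have h1 : ∀ i, r i ⬝ᵥ μ = (((G⁻¹ : SpecialLinearGroup (Fin 3) F) : Matrix (Fin 3) (Fin 3) F) *ᵥ μ) i := by
      intro i
      rw [← dotProduct_mulVec, single_dotProduct, one_mul]
    have h2 : ((G⁻¹ : SpecialLinearGroup (Fin 3) F) : Matrix (Fin 3) (Fin 3) F) *ᵥ μ =
        (r 0 ⬝ᵥ μ) • Pi.single 0 1 + (r 1 ⬝ᵥ μ) • Pi.single 1 1 + (r 2 ⬝ᵥ μ) • Pi.single 2 1 := by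
      ext i
      rw [h1, h1, h1]
      fin_cases i <;> simp
    calc μ = (G : Matrix (Fin 3) (Fin 3) F) *ᵥ
          (((G⁻¹ : SpecialLinearGroup (Fin 3) F) : Matrix (Fin 3) (Fin 3) F) *ᵥ μ) := by
          rw [mulVec_mulVec, ← Matrix.SpecialLinearGroup.coe_mul, mul_inv_cancel, Matrix.SpecialLinearGroup.coe_one,
            one_mulVec]
      _ = _ := by rw [h2, mulVec_add, mulVec_add, mulVec_smul, mulVec_smul, mulVec_smul]
  have hf : ∀ ψ : Fin 3 → F, ψ = (ψ ⬝ᵥ p 0) • r 0 + (ψ ⬝ᵥ p 1) • r 1 + (ψ ⬝ᵥ p 2) • r 2 := by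
    intro ψ
    have h1 : ∀ i, ψ ⬝ᵥ p i = (ψ ᵥ* (G : Matrix (Fin 3) (Fin 3) F)) i := by
      intro i
      rw [dotProduct_mulVec, dotProduct_single, mul_one]
    have h2 : ψ ᵥ* (G : Matrix (Fin 3) (Fin 3) F) =
        (ψ ⬝ᵥ p 0) • Pi.single 0 1 + (ψ ⬝ᵥ p 1) • Pi.single 1 1 + (ψ ⬝ᵥ p 2) • Pi.single 2 1 := by
      ext i
      rw [h1, h1, h1]
      fin_cases i <;> simp
    calc ψ = (ψ ᵥ* (G : Matrix (Fin 3) (Fin 3) F)) ᵥ*
          ((G⁻¹ : SpecialLinearGroup (Fin 3) F) : Matrix (Fin 3) (Fin 3) F) := by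
          rw [vecMul_vecMul, ← Matrix.SpecialLinearGroup.coe_mul, mul_inv_cancel, Matrix.SpecialLinearGroup.coe_one,
            vecMul_one]
      _ = _ := by rw [h2, add_vecMul, add_vecMul, smul_vecMul, smul_vecMul, smul_vecMul]
  rw [hp0, hr0] at hv hf
  refine ⟨p 1, r 1, p 2, r 2, by simp [hrp], ?_, ?_, ?_, by simp [hrp], ?_, by simp [hrp], hv, hf⟩
  · rw [← hp0, hrp]; rfl
  · rw [← hr0, hrp]; rfl
  · rw [← hr0, hrp]; rfl
  · rw [← hp0, hrp]; rfl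

theorem sg_inv {a f : Fin 3 → F} (h : f ⬝ᵥ a = 1) : (sg a f h)⁻¹ = sg a f h :=
  inv_eq_of_mul_eq_one_left (sg_mul_self a f h)

theorem sg_mulVec {b g : Fin 3 → F} (h : g ⬝ᵥ b = 1) (μ : Fin 3 → F) :
    ((sg b g h : SpecialLinearGroup (Fin 3) F) : Matrix (Fin 3) (Fin 3) F) *ᵥ μ = -μ + (2 * (g ⬝ᵥ μ)) • b := by
  rw [sg_coe, add_mulVec, smul_mulVec, smul_mulVec, one_mulVec, vecMulVec_mulVec]
  ext i
  simp
  ring

theorem sg_vecMul {b g : Fin 3 → F} (h : g ⬝ᵥ b = 1) (ψ : Fin 3 → F) :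
    ψ ᵥ* ((sg b g h : SpecialLinearGroup (Fin 3) F) : Matrix (Fin 3) (Fin 3) F) = -ψ + (2 * (ψ ⬝ᵥ b)) • g := by
  rw [sg_coe, vecMul_add, vecMul_smul, vecMul_smul, vecMul_one, vecMul_vecMulVec]
  ext i
  simp
  ring

/-- same point -/
theorem claim1 {a f b g w k : Fin 3 → F} (hKA : KA A a f) (ha : IA A a f) (hgb : g ⬝ᵥ b = 1) (hga : g ⬝ᵥ a = 0)
    (hfb : f ⬝ᵥ b = 0) (hfw : f ⬝ᵥ w = 0) (hgw : g ⬝ᵥ w = 0)
    (hres : ∀ ψ : Fin 3 → F, ψ = (ψ ⬝ᵥ a) • f + (ψ ⬝ᵥ b) • g + (ψ ⬝ᵥ w) • k)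
    {m : Fin 3 → F} (e : m ⬝ᵥ a = 1) (hm : pj F (sg a m e) ∈ A) :
    pj F (sg b g hgb) * pj F (sg a m e) * (pj F (sg b g hgb))⁻¹ ∈ A := by
  obtain ⟨haf, hA⟩ := ha
  have h0 : ((2 : F) • (m - f)) ⬝ᵥ a = 0 := by rw [smul_dotProduct, sub_dotProduct, e, haf, sub_self, smul_zero]
  have hT : TA A a ((2 : F) • (m - f)) := by
    refine ⟨h0, ?_⟩
    rw [eq_inv_mul_of_mul_eq (sg_tr haf e h0), map_mul, map_inv]
    exact A.mul_mem (A.inv_mem hA) hm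
  have hψa : (m - f) ⬝ᵥ a = 0 := by rw [sub_dotProduct, e, haf, sub_self]
  have hψb : (m - f) ⬝ᵥ b = m ⬝ᵥ b := by rw [sub_dotProduct, hfb, sub_zero]
  let m' : Fin 3 → F := m - (2 * (m ⬝ᵥ b)) • g
  have hm' : m' ⬝ᵥ a = 1 := by
    show (m - (2 * (m ⬝ᵥ b)) • g) ⬝ᵥ a = 1
    rw [sub_dotProduct, smul_dotProduct, hga, e, smul_zero, sub_zero]
  have hT' : TA A a ((2 : F) • (m' - f)) := by
    by_cases hw : (m - f) ⬝ᵥ w = 0
    · have h1 := hres (m - f)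
      rw [hψa, hw, zero_smul, zero_smul, zero_add, add_zero, hψb] at h1
      refine (TA.neg hT).congr ?_
      rw [neg_vecMulVec, ← vecMulVec_neg]
      congr 1
      show (2 : F) • (m - (2 * (m ⬝ᵥ b)) • g - f) = -((2 : F) • (m - f))
      have h2 : m - (2 * (m ⬝ᵥ b)) • g - f = (m - f) - (2 : F) • ((m ⬝ᵥ b) • g) := by
        rw [smul_smul]
        abel
      rw [h2, ← h1]
      module
    · let c : F := -2 * (m ⬝ᵥ b) * ((m - f) ⬝ᵥ w)⁻¹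
      have h1 : TA A (c • w) g := hKA.ta (by rw [dotProduct_smul, hfw, smul_zero]) hga
        (by rw [dotProduct_smul, hgw, smul_zero])
      have h2 := TA.comm hT h1 hga
      have h3 : ((2 : F) • (m - f)) ⬝ᵥ (c • w) = -4 * (m ⬝ᵥ b) := by
        rw [smul_dotProduct, dotProduct_smul, smul_eq_mul, smul_eq_mul]
        show 2 * (-2 * (m ⬝ᵥ b) * ((m - f) ⬝ᵥ w)⁻¹ * ((m - f) ⬝ᵥ w)) = _
        rw [mul_assoc (-2 * (m ⬝ᵥ b)), inv_mul_cancel₀ hw]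
        ring
      rw [h3] at h2
      have h4 : TA A a ((-4 * (m ⬝ᵥ b)) • g) := h2.congr (by rw [vecMulVec_smul, smul_vecMulVec])
      have h5 := hT.add' h4
      have h6 : (2 : F) • (m' - f) = (2 : F) • (m - f) + (-4 * (m ⬝ᵥ b)) • g := by
        show (2 : F) • (m - (2 * (m ⬝ᵥ b)) • g - f) = _
        module
      rwa [h6]
  obtain ⟨h1, h2⟩ := hT'
  have h3 := sg_tr haf hm' h1
  have h4 : sg b g hgb * sg a m e * (sg b g hgb)⁻¹ = sg a m' hm' := by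
    rw [sg_conj]
    apply sg_eq
    rw [sg_mulVec, sg_inv, sg_vecMul, hga, mul_zero, zero_smul, add_zero, neg_vecMulVec, ← vecMulVec_neg]
    congr 1
    show _ = m - (2 * (m ⬝ᵥ b)) • g
    module
  rw [← map_inv, ← map_mul, ← map_mul, h4, ← h3, map_mul]
  exact A.mul_mem hA h2

/-- same line -/
theorem claim2 {a f b g w k : Fin 3 → F} (hKA : KA A a f) (ha : IA A a f) (hgb : g ⬝ᵥ b = 1) (hga : g ⬝ᵥ a = 0)
    (hfb : f ⬝ᵥ b = 0) (hka : k ⬝ᵥ a = 0) (hkb : k ⬝ᵥ b = 0)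
    (hres : ∀ μ : Fin 3 → F, μ = (f ⬝ᵥ μ) • a + (g ⬝ᵥ μ) • b + (k ⬝ᵥ μ) • w)
    {m : Fin 3 → F} (e : f ⬝ᵥ m = 1) (hm : pj F (sg m f e) ∈ A) :
    pj F (sg b g hgb) * pj F (sg m f e) * (pj F (sg b g hgb))⁻¹ ∈ A := by
  obtain ⟨haf, hA⟩ := ha
  have h0 : f ⬝ᵥ ((2 : F) • (m - a)) = 0 := by rw [dotProduct_smul, dotProduct_sub, e, haf, sub_self, smul_zero]
  have hT : TA A ((2 : F) • (m - a)) f := by
    refine ⟨h0, ?_⟩
    rw [eq_mul_inv_of_mul_eq (tr_sg haf e h0), map_mul, map_inv]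
    exact A.mul_mem hm (A.inv_mem hA)
  have hψa : f ⬝ᵥ (m - a) = 0 := by rw [dotProduct_sub, e, haf, sub_self]
  have hψb : g ⬝ᵥ (m - a) = g ⬝ᵥ m := by rw [dotProduct_sub, hga, sub_zero]
  let m' : Fin 3 → F := m - (2 * (g ⬝ᵥ m)) • b
  have hm' : f ⬝ᵥ m' = 1 := by
    show f ⬝ᵥ (m - (2 * (g ⬝ᵥ m)) • b) = 1
    rw [dotProduct_sub, dotProduct_smul, hfb, e, smul_zero, sub_zero]
  have hT' : TA A ((2 : F) • (m' - a)) f := by
    by_cases hw : k ⬝ᵥ (m - a) = 0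
    · have h1 := hres (m - a)
      rw [hψa, hw, zero_smul, zero_smul, zero_add, add_zero, hψb] at h1
      refine (TA.neg hT).congr ?_
      congr 1
      show (2 : F) • (m - (2 * (g ⬝ᵥ m)) • b - a) = -((2 : F) • (m - a))
      have h2 : m - (2 * (g ⬝ᵥ m)) • b - a = (m - a) - (2 : F) • ((g ⬝ᵥ m) • b) := by
        rw [smul_smul]
        abel
      rw [h2, ← h1]
      module
    · let c : F := -2 * (g ⬝ᵥ m) * (k ⬝ᵥ (m - a))⁻¹
      have h1 : TA A b (c • k) := hKA.ta hfb (by rw [smul_dotProduct, hka, smul_zero])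
        (by rw [smul_dotProduct, hkb, smul_zero])
      have h2 := TA.comm h1 hT hfb
      have h3 : (c • k) ⬝ᵥ ((2 : F) • (m - a)) = -4 * (g ⬝ᵥ m) := by
        rw [smul_dotProduct, dotProduct_smul, smul_eq_mul, smul_eq_mul]
        show -2 * (g ⬝ᵥ m) * (k ⬝ᵥ (m - a))⁻¹ * (2 * (k ⬝ᵥ (m - a))) = _
        have h4 : (k ⬝ᵥ (m - a))⁻¹ * (k ⬝ᵥ (m - a)) = 1 := inv_mul_cancel₀ hw
        linear_combination -4 * (g ⬝ᵥ m) * h4
      rw [h3] at h2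
      have h5 := hT.add h2
      have h6 : (2 : F) • (m' - a) = (2 : F) • (m - a) + (-4 * (g ⬝ᵥ m)) • b := by
        show (2 : F) • (m - (2 * (g ⬝ᵥ m)) • b - a) = _
        module
      rwa [h6]
  obtain ⟨h1, h2⟩ := hT'
  have h3 := tr_sg haf hm' h1
  have h4 : sg b g hgb * sg m f e * (sg b g hgb)⁻¹ = sg m' f hm' := by
    rw [sg_conj]
    apply sg_eq
    rw [sg_mulVec, sg_inv, sg_vecMul, hfb, mul_zero, zero_smul, add_zero, vecMulVec_neg, ← neg_vecMulVec]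
    congr 1
    show _ = m - (2 * (g ⬝ᵥ m)) • b
    module
  rw [← map_inv, ← map_mul, ← map_mul, h4, ← h3, map_mul]
  exact A.mul_mem h2 hA

/-- **`q` odd** -/
theorem odd3 [Fintype F] (ho : Odd (Fintype.card F)) (h : IF A Γ) (hev : ∃ t ∈ A, orderOf t = 2) : False := by
  classical
  have h2 := two_ne_of_odd ho
  have hfin := fin3 (F := F)
  have hsimp := simple3 (F := F)
  have hlift : ∀ t ∈ A, orderOf t = 2 → ∃ (a f : Fin 3 → F) (e : f ⬝ᵥ a = 1), t = pj F (sg a f e) := by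
    intro t _ ht
    obtain ⟨k, rfl, hk, hk1⟩ := lift_inv ht
    obtain ⟨a, f, e, rfl⟩ := lift_odd h2 hk hk1
    exact ⟨a, f, e, rfl⟩
  obtain ⟨t, htA, ht⟩ := hev
  obtain ⟨a, f, haf, rfl⟩ := hlift t htA ht
  have ha : IA A a f := ⟨haf, htA⟩
  have h5 := ha.five h2 ho h
  have hK : ∀ {a f : Fin 3 → F}, IA A a f → KA A a f := fun ha => ha.ka h2 ho h5 h
  obtain ⟨b, g, w, k, hgb, hga, hfb, hfw, hgw, hka, hkb, hv, hf⟩ := exists_basis haf
  let S : Set (ProjectiveSpecialLinearGroup (Fin 3) F) := {y | y ∈ A ∧ orderOf y = 2}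
  have hcl : ∀ θ : MulAut (ProjectiveSpecialLinearGroup (Fin 3) F), (∀ y ∈ S, θ y ∈ A) →
      ∀ y ∈ closure S, θ y ∈ closure S := by
    intro θ hθ
    have h6 : closure S ≤ (closure S).comap θ.toMonoidHom := (closure_le _).2 fun y hy =>
      subset_closure ⟨hθ y hy, (MulEquiv.orderOf_eq θ y).trans hy.2⟩
    exact fun y hy => h6 hy
  have hx : pj F (sg b g hgb) ∈ A := by
    apply Cfsg.Agent.H680.Fxy.IF.norm h (K := closure S) ((closure_le _).2 fun y hy => hy.1)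
    · intro σ hσ
      exact hcl σ fun y hy => (h.inv σ hσ y).2 hy.1
    · intro h0
      have h6 : pj F (sg a f haf) ∈ closure S := subset_closure ⟨htA, ht⟩
      rw [h0, mem_bot] at h6
      exact sg_ne_one h2 haf h6
    · refine hcl (MulAut.conj (pj F (sg b g hgb))) fun y hy => ?_
      obtain ⟨a', f', e', rfl⟩ := hlift y hy.1 hy.2
      rw [MulAut.conj_apply]
      rcases lemA hK h.ne_top ha ⟨e', hy.1⟩ with h6 | h6
      · have hc : f' ⬝ᵥ a ≠ 0 := by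
          intro h0
          rw [h0, zero_smul] at h6
          exact (ne_zero_of_dot haf).1 h6
        have h7 : vecMulVec a ((f' ⬝ᵥ a)⁻¹ • f') = vecMulVec a' f' := by
          calc vecMulVec a ((f' ⬝ᵥ a)⁻¹ • f') = vecMulVec ((f' ⬝ᵥ a) • a') ((f' ⬝ᵥ a)⁻¹ • f') :=
                congrArg (fun v => vecMulVec v ((f' ⬝ᵥ a)⁻¹ • f')) h6
            _ = _ := by rw [smul_vecMulVec, vecMulVec_smul, smul_smul, mul_inv_cancel₀ hc, one_smul]
        have h8 : ((f' ⬝ᵥ a)⁻¹ • f') ⬝ᵥ a = 1 := by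
          rw [smul_dotProduct, smul_eq_mul, inv_mul_cancel₀ hc]
        have h9 := sg_eq h8 e' h7
        rw [← h9]
        refine claim1 (hK ha) ha hgb hga hfb hfw hgw hf h8 ?_
        rw [h9]
        exact hy.1
      · have hc : f ⬝ᵥ a' ≠ 0 := by
          intro h0
          rw [h0, zero_smul] at h6
          exact (ne_zero_of_dot haf).2 h6
        have h7 : vecMulVec ((f ⬝ᵥ a')⁻¹ • a') f = vecMulVec a' f' := by
          calc vecMulVec ((f ⬝ᵥ a')⁻¹ • a') f = vecMulVec ((f ⬝ᵥ a')⁻¹ • a') ((f ⬝ᵥ a') • f') :=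
                congrArg (fun v => vecMulVec ((f ⬝ᵥ a')⁻¹ • a') v) h6
            _ = _ := by rw [smul_vecMulVec, vecMulVec_smul, smul_smul, inv_mul_cancel₀ hc, one_smul]
        have h8 : f ⬝ᵥ ((f ⬝ᵥ a')⁻¹ • a') = 1 := by
          rw [dotProduct_smul, smul_eq_mul, inv_mul_cancel₀ hc]
        have h9 := sg_eq h8 e' h7
        rw [← h9]
        refine claim2 (hK ha) ha hgb hga hfb hka hkb hv h8 ?_
        rw [h9]
        exact hy.1
  rcases lemA hK h.ne_top ha ⟨hgb, hx⟩ with h6 | h6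
  · rw [hga, zero_smul] at h6
    exact (ne_zero_of_dot haf).1 h6
  · rw [hfb, zero_smul] at h6
    exact (ne_zero_of_dot haf).2 h6

/-- **the cell `CellsPSL.three`** -/
theorem three : ∀ (F : Type) [Field F] [Fintype F], KillE (ProjectiveSpecialLinearGroup (Fin 3) F) := by
  intro F _ _ A Γ h hev
  by_cases h2 : (2 : F) = 0
  · exact even3 h2 h hev
  · refine odd3 ?_ h hev
    rw [Nat.odd_iff]
    apply FiniteField.odd_card_of_char_ne_two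
    intro h3
    apply h2
    have h4 := ringChar.Nat.cast_ringChar (R := F)
    rw [h3] at h4
    exact_mod_cast h4

end Cfsg.Agent.H771.IFx
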