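import Cfsg.Agent.S0806
import Cfsg.Agent.GH.Cov.SLTwoFacts
import Cfsg.Agent.H394.SqPsl2

/-!
# S5719 (helper771): subgroups of `SL₂(q)` of index `k` with `k⁵ < q²(q² + q + 1)`
-/

set_option autoImplicit false

namespace Cfsg.Agent.H771.IFx

open Matrix Subgroup

/-- a simple group acts faithfully on the cosets of a proper subgroup -/
theorem card_dvd_factorial {S : Type*} [Group S] [Finite S] [IsSimpleGroup S] {H : Subgroup S} (hH : H ≠ ⊤) :
    Nat.card S ∣ H.index.factorial := by
  classical
  have hc : H.normalCore = ⊥ := by
    rcases (inferInstance : H.normalCore.Normal).eq_bot_or_eq_top with h | h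
    · exact h
    · exfalso
      apply hH
      rw [eq_top_iff, ← h]
      exact H.normalCore_le
  have hinj : Function.Injective (MulAction.toPermHom S (S ⧸ H)) := by
    rw [← MonoidHom.ker_eq_bot_iff, ← Subgroup.normalCore_eq_ker, hc]
  have hf : Fintype (S ⧸ H) := Fintype.ofFinite _
  have h1 := Subgroup.card_dvd_of_injective _ hinj
  rwa [Nat.card_perm] at h1

variable {F : Type*} [Field F] [Fintype F]

theorem two_ne_of_odd (h : Odd (Fintype.card F)) : (2 : F) ≠ 0 := by
  intro h2
  have h3 : ringChar F = 2 := by
    have h4 : ringChar F ∣ 2 := ringChar.dvd (by exact_mod_cast h2)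
    rcases (Nat.dvd_prime Nat.prime_two).1 h4 with h5 | h5
    · exact absurd h5 (CharP.ringChar_ne_one)
    · exact h5
  have := (FiniteField.even_card_iff_char_two (F := F)).1 h3
  rw [Nat.odd_iff] at h
  omega

theorem idx_top (ho : Odd (Fintype.card F)) (h5 : 5 ≤ Fintype.card F) (K : Subgroup (SpecialLinearGroup (Fin 2) F))
    (h : K.index ^ 5 < (Fintype.card F ^ 2 + Fintype.card F + 1) * Fintype.card F ^ 2) : K = ⊤ := by
  classical
  have h2 := two_ne_of_odd ho
  set q := Fintype.card F with hq
  let π : SpecialLinearGroup (Fin 2) F →* ProjectiveSpecialLinearGroup (Fin 2) F :=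
    QuotientGroup.mk' (Subgroup.center (SpecialLinearGroup (Fin 2) F))
  have hπ : Function.Surjective π := QuotientGroup.mk'_surjective _
  have hidx : (K.map π).index ≤ K.index := Nat.le_of_dvd (Nat.pos_of_ne_zero K.index_ne_zero_of_finite)
    (Subgroup.index_map_dvd K hπ)
  by_cases htop : K.map π = ⊤
  · -- index at most two
    have hcen : ∀ z : SpecialLinearGroup (Fin 2) F, π z = 1 → z = 1 ∨ z = -1 := by
      intro z hz
      have h3 : z ∈ Subgroup.center (SpecialLinearGroup (Fin 2) F) := (QuotientGroup.eq_one_iff z).1 hz
      obtain ⟨r, hr, hrz⟩ := Matrix.SpecialLinearGroup.mem_center_iff.1 h3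
      rw [Fintype.card_fin] at hr
      have hr' : (r - 1) * (r + 1) = 0 := by linear_combination hr
      rcases mul_eq_zero.1 hr' with h4 | h4
      · left
        have h5 : r = 1 := by linear_combination h4
        apply Subtype.ext
        rw [← hrz, h5, map_one]
        rfl
      · right
        have h5 : r = -1 := by linear_combination h4
        apply Subtype.ext
        rw [← hrz, h5, map_neg, map_one]
        rfl
    have hle : K.index ≤ 2 := by
      let ψ : Bool → SpecialLinearGroup (Fin 2) F ⧸ K := fun b => QuotientGroup.mk (if b then 1 else -1)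
      have hψ : Function.Surjective ψ := by
        intro c
        induction c using QuotientGroup.induction_on with
        | H g =>
          obtain ⟨k, hk, hkg⟩ : π g ∈ K.map π := by rw [htop]; exact mem_top _
          have h3 : π (g * k⁻¹) = 1 := by rw [map_mul, map_inv, hkg, mul_inv_cancel]
          rcases hcen _ h3 with h4 | h4
          · refine ⟨true, ?_⟩
            show QuotientGroup.mk (1 : SpecialLinearGroup (Fin 2) F) = _
            rw [QuotientGroup.eq, inv_one, one_mul, mul_inv_eq_one.1 h4]
            exact hk
          · refine ⟨false, ?_⟩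
            show QuotientGroup.mk (-1 : SpecialLinearGroup (Fin 2) F) = _
            have h5 : g = -1 * k := by rw [← h4, inv_mul_cancel_right]
            rw [QuotientGroup.eq, h5, inv_mul_cancel_left]
            exact hk
      have h3 := Nat.card_le_card_of_surjective ψ hψ
      rw [Nat.card_eq_fintype_card (α := Bool), Fintype.card_bool] at h3
      exact h3
    have h3 := Cfsg.Agent.GH.Cov.SLTwoFacts.sl_index_ne_two h2 K
    have h4 : K.index ≠ 0 := K.index_ne_zero_of_finite
    have h6 : K.index = 1 := by omega
    exact Subgroup.index_eq_one.1 h6
  · exfalso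
    have hs : IsSimpleGroup (ProjectiveSpecialLinearGroup (Fin 2) F) :=
      Matrix.ProjectiveSpecialLinearGroup.rank_two_simple (by rw [Nat.card_eq_fintype_card]; omega)
    have hfin : Finite (ProjectiveSpecialLinearGroup (Fin 2) F) := Quotient.finite _
    have hcard := Cfsg.Agent.H394.SqPsl2.card_psl (F := F)
    have hd := card_dvd_factorial htop
    have hk : (K.map π).index ^ 5 < (q ^ 2 + q + 1) * q ^ 2 := lt_of_le_of_lt (Nat.pow_le_pow_left hidx 5) h
    by_cases hmem : q ∈ ({2, 3, 5, 7, 9, 11} : Finset ℕ)
    · simp only [Finset.mem_insert, Finset.mem_singleton] at hmem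
      rw [← hq] at hcard
      generalize (K.map π).index = k at hk hd
      generalize Nat.card (ProjectiveSpecialLinearGroup (Fin 2) F) = N at hcard hd
      clear_value q
      rcases hmem with rfl | rfl | rfl | rfl | rfl | rfl
      · omega
      · omega
      · have hk3 : k < 4 := by
          by_contra hcon
          push Not at hcon
          have := Nat.pow_le_pow_left hcon 5
          omega
        have hN : N = 60 := by norm_num at hcard; omega
        rw [hN] at hd
        interval_cases k <;> revert hd <;> decide
      · have hk3 : k < 5 := by
          by_contra hcon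
          push Not at hcon
          have := Nat.pow_le_pow_left hcon 5
          omega
        have hN : N = 168 := by norm_num at hcard; omega
        rw [hN] at hd
        interval_cases k <;> revert hd <;> decide
      · have hk3 : k < 6 := by
          by_contra hcon
          push Not at hcon
          have := Nat.pow_le_pow_left hcon 5
          omega
        have hN : N = 360 := by norm_num at hcard; omega
        rw [hN] at hd
        interval_cases k <;> revert hd <;> decide
      · have hk3 : k < 7 := by
          by_contra hcon
          push Not at hcon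
          have := Nat.pow_le_pow_left hcon 5
          omega
        have hN : N = 660 := by norm_num at hcard; omega
        rw [hN] at hd
        interval_cases k <;> revert hd <;> decide
    · have h3 := (Cfsg.Agent.S0806.result hq.symm hmem).1 _ htop
      have h4 : (q + 1) ^ 5 ≤ (K.map π).index ^ 5 := Nat.pow_le_pow_left h3 5
      have h6 : (q ^ 2 + q + 1) * q ^ 2 < (q + 1) ^ 5 := by nlinarith [sq_nonneg q, pow_pos (show 0 < q by omega) 3]
      omega

end Cfsg.Agent.H771.IFx
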