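import Cfsg.Agent.H771.IFx.Even3
import Cfsg.Agent.H771.IFx.Idx

/-!
# S5719 (helper771): `PSL₃(q)`, `q` odd: involutions and antiflags
-/

set_option autoImplicit false
set_option linter.unusedSectionVars false

namespace Cfsg.Agent.H771.IFx

open Matrix Subgroup Cfsg.Agent.H209.Fxy

variable {F : Type*} [Field F] [Finite F]

/-- the involution `2 a fᵀ - 1` -/
def sg (a f : Fin 3 → F) (h : f ⬝ᵥ a = 1) : SpecialLinearGroup (Fin 3) F :=
  ⟨(-1 : F) • (1 : Matrix (Fin 3) (Fin 3) F) + (2 : F) • vecMulVec a f, by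
    have h' : f 0 * a 0 + f 1 * a 1 + f 2 * a 2 = 1 := by simpa [dotProduct, Fin.sum_univ_three] using h
    rw [det_fin_three]
    simp only [Matrix.add_apply, Matrix.smul_apply, Matrix.one_apply, vecMulVec_apply, smul_eq_mul]
    simp
    linear_combination 2 * h'⟩

theorem sg_coe (a f : Fin 3 → F) (h : f ⬝ᵥ a = 1) :
    ((sg a f h : SpecialLinearGroup (Fin 3) F) : Matrix (Fin 3) (Fin 3) F) = (-1 : F) • 1 + (2 : F) • vecMulVec a f := rfl

theorem ne_zero_of_dot {a f : Fin 3 → F} (h : f ⬝ᵥ a = 1) : a ≠ 0 ∧ f ≠ 0 := by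
  constructor
  · rintro rfl
    rw [dotProduct_zero] at h
    exact zero_ne_one h
  · rintro rfl
    rw [zero_dotProduct] at h
    exact zero_ne_one h

theorem sg_mul_self (a f : Fin 3 → F) (h : f ⬝ᵥ a = 1) : sg a f h * sg a f h = 1 := by
  apply sl_ext
  rw [Matrix.SpecialLinearGroup.coe_mul, sg_coe, Matrix.SpecialLinearGroup.coe_one]
  simp only [add_mul, mul_add, smul_mul_assoc, mul_smul_comm, one_mul, mul_one, vecMulVec_mul_vecMulVec, h, one_smul]
  module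

theorem sg_tr {a f f' : Fin 3 → F} (h : f ⬝ᵥ a = 1) (h' : f' ⬝ᵥ a = 1) (h'' : ((2 : F) • (f' - f)) ⬝ᵥ a = 0) :
    sg a f h * tr a ((2 : F) • (f' - f)) h'' = sg a f' h' := by
  apply sl_ext
  rw [Matrix.SpecialLinearGroup.coe_mul, sg_coe, sg_coe, tr_coe]
  simp only [add_mul, mul_add, mul_sub, smul_mul_assoc, mul_smul_comm, one_mul, mul_one, vecMulVec_mul_vecMulVec, h,
    one_smul, vecMulVec_smul, vecMulVec_sub]
  module

theorem tr_sg {a a' f : Fin 3 → F} (h : f ⬝ᵥ a = 1) (h' : f ⬝ᵥ a' = 1) (h'' : f ⬝ᵥ ((2 : F) • (a' - a)) = 0) :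
    tr ((2 : F) • (a' - a)) f h'' * sg a f h = sg a' f h' := by
  apply sl_ext
  rw [Matrix.SpecialLinearGroup.coe_mul, sg_coe, sg_coe, tr_coe]
  simp only [add_mul, mul_add, sub_mul, smul_mul_assoc, mul_smul_comm, one_mul, mul_one, vecMulVec_mul_vecMulVec, h,
    one_smul, smul_vecMulVec, sub_vecMulVec]
  module

theorem smul_one_dot {a f : Fin 3 → F} {r : F} (h : f ⬝ᵥ a = 1) (hr : r ≠ 0) : (r⁻¹ • f) ⬝ᵥ (r • a) = 1 := by
  rw [smul_dotProduct, dotProduct_smul, h, smul_smul, inv_mul_cancel₀ hr, one_smul]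

theorem sg_smul {a f : Fin 3 → F} {r : F} (h : f ⬝ᵥ a = 1) (hr : r ≠ 0) :
    sg (r • a) (r⁻¹ • f) (smul_one_dot h hr) = sg a f h := by
  apply sl_ext
  rw [sg_coe, sg_coe, smul_vecMulVec, vecMulVec_smul, smul_smul r r⁻¹, mul_inv_cancel₀ hr, one_smul]

theorem conj_dot (g : SpecialLinearGroup (Fin 3) F) (a f : Fin 3 → F) :
    (f ᵥ* ((g⁻¹ : SpecialLinearGroup (Fin 3) F) : Matrix (Fin 3) (Fin 3) F)) ⬝ᵥ
      ((g : Matrix (Fin 3) (Fin 3) F) *ᵥ a) = f ⬝ᵥ a := by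
  rw [← dotProduct_mulVec, mulVec_mulVec, ← Matrix.SpecialLinearGroup.coe_mul, inv_mul_cancel,
    Matrix.SpecialLinearGroup.coe_one, one_mulVec]

theorem sg_conj (g : SpecialLinearGroup (Fin 3) F) {a f : Fin 3 → F} (h : f ⬝ᵥ a = 1) :
    g * sg a f h * g⁻¹ = sg ((g : Matrix (Fin 3) (Fin 3) F) *ᵥ a)
      (f ᵥ* ((g⁻¹ : SpecialLinearGroup (Fin 3) F) : Matrix (Fin 3) (Fin 3) F)) ((conj_dot g a f).trans h) := by
  apply sl_ext
  rw [conj_form g (sg_coe a f h), sg_coe]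

theorem tr_conj' (g : SpecialLinearGroup (Fin 3) F) {a f : Fin 3 → F} (h : f ⬝ᵥ a = 0) :
    g * tr a f h * g⁻¹ = tr ((g : Matrix (Fin 3) (Fin 3) F) *ᵥ a)
      (f ᵥ* ((g⁻¹ : SpecialLinearGroup (Fin 3) F) : Matrix (Fin 3) (Fin 3) F)) ((conj_dot g a f).trans h) := by
  apply sl_ext
  rw [conj_form g (a := 1) (b := 1) (v := a) (f := f) (by rw [tr_coe, one_smul, one_smul]), tr_coe, one_smul, one_smul]

theorem tr_inv {v f : Fin 3 → F} (h : f ⬝ᵥ v = 0) (h' : f ⬝ᵥ (-v) = 0) : (tr v f h)⁻¹ = tr (-v) f h' := by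
  symm
  apply eq_inv_of_mul_eq_one_left
  rw [tr_mul h' h (by rw [neg_add_cancel, dotProduct_zero])]
  apply sl_ext
  rw [tr_coe, neg_add_cancel, zero_vecMulVec, add_zero]
  rfl

theorem sg_ne_one (h2 : (2 : F) ≠ 0) {a f : Fin 3 → F} (h : f ⬝ᵥ a = 1) : pj F (sg a f h) ≠ 1 := by
  intro h1
  obtain ⟨r, hr⟩ := pj_ker h1
  rw [sg_coe] at hr
  have e : ∀ i j, (-1 : F) * (1 : Matrix (Fin 3) (Fin 3) F) i j + 2 * (a i * f j) = r * (1 : Matrix (Fin 3) (Fin 3) F) i j := by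
    intro i j
    exact congrFun (congrFun hr i) j
  obtain ⟨i, hi⟩ := exists_ne (ne_zero_of_dot h).1
  obtain ⟨j, hj⟩ := exists_ne (ne_zero_of_dot h).2
  have e1 : ∀ i j, i ≠ j → a i * f j = 0 := by
    intro i j hij
    have := e i j
    rw [Matrix.one_apply_ne hij] at this
    have h3 : 2 * (a i * f j) = 0 := by linear_combination this
    exact (mul_eq_zero.1 h3).resolve_left h2
  have e2 : ∀ i j, a i * f i = a j * f j := by
    intro i j
    have h3 := e i i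
    have h4 := e j j
    rw [Matrix.one_apply_eq] at h3 h4
    have h5 : 2 * (a i * f i - a j * f j) = 0 := by linear_combination h3 - h4
    exact sub_eq_zero.1 ((mul_eq_zero.1 h5).resolve_left h2)
  have hij : i = j := by
    by_contra hij
    exact mul_ne_zero hi hj (e1 i j hij)
  subst hij
  obtain ⟨k, hk⟩ : ∃ k : Fin 3, k ≠ i := exists_ne_fin i
  have h6 := e2 i k
  have h7 : f k = 0 := (mul_eq_zero.1 (e1 i k (Ne.symm hk))).resolve_left hi
  rw [h7, mul_zero] at h6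
  exact mul_ne_zero hi hj h6
where
  exists_ne_fin (i : Fin 3) : ∃ k : Fin 3, k ≠ i := by revert i; decide

theorem sg_order (h2 : (2 : F) ≠ 0) {a f : Fin 3 → F} (h : f ⬝ᵥ a = 1) : orderOf (pj F (sg a f h)) = 2 := by
  apply orderOf_eq_prime
  · rw [pow_two, ← map_mul, sg_mul_self, map_one]
  · exact sg_ne_one h2 h

theorem rank_one {N : Matrix (Fin 3) (Fin 3) F} (h : Module.finrank F (LinearMap.range (Matrix.toLin' N)) ≤ 1) :
    ∃ v f : Fin 3 → F, N = vecMulVec v f := by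
  obtain ⟨v, hv⟩ := finrank_le_one_iff.1 h
  choose f hf using fun j : Fin 3 => hv ⟨Matrix.toLin' N (Pi.single j 1), ⟨_, rfl⟩⟩
  refine ⟨v.1, f, ?_⟩
  ext i j
  have h5 := congrArg Subtype.val (hf j)
  have h6 := congrFun h5 i
  rw [vecMulVec_apply]
  simp only [SetLike.val_smul, Pi.smul_apply, smul_eq_mul, toLin'_apply, mulVec_single_one, col_apply] at h6
  rw [← h6, mul_comm]

theorem idem_one {P : Matrix (Fin 3) (Fin 3) F} (hP : P * P = P) (h0 : P ≠ 0)
    (h : Module.finrank F (LinearMap.range (Matrix.toLin' P)) ≤ 1) :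
    ∃ a f : Fin 3 → F, f ⬝ᵥ a = 1 ∧ P = vecMulVec a f := by
  obtain ⟨v, f, rfl⟩ := rank_one h
  refine ⟨v, f, ?_, rfl⟩
  have hv : v ≠ 0 := by
    rintro rfl
    exact h0 (zero_vecMulVec f)
  have hf : f ≠ 0 := by
    rintro rfl
    exact h0 (vecMulVec_zero v)
  rw [vecMulVec_mul_vecMulVec, vecMulVec_smul] at hP
  have h1 : (f ⬝ᵥ v - 1) • vecMulVec v f = 0 := by rw [sub_smul, hP, one_smul, sub_self]
  exact sub_eq_zero.1 ((smul_eq_zero.1 h1).resolve_right (vv_ne hv hf))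

/-- involutions of `SL₃(F)`, characteristic not two -/
theorem lift_odd (h2 : (2 : F) ≠ 0) {k : SpecialLinearGroup (Fin 3) F} (hk : k * k = 1) (h1 : k ≠ 1) :
    ∃ (a f : Fin 3 → F) (h : f ⬝ᵥ a = 1), k = sg a f h := by
  have hkk : (k : Matrix (Fin 3) (Fin 3) F) * k = 1 := by
    rw [← Matrix.SpecialLinearGroup.coe_mul, hk, Matrix.SpecialLinearGroup.coe_one]
  let P : Matrix (Fin 3) (Fin 3) F := (2 : F)⁻¹ • ((k : Matrix (Fin 3) (Fin 3) F) + 1)
  let Q : Matrix (Fin 3) (Fin 3) F := (2 : F)⁻¹ • (1 - (k : Matrix (Fin 3) (Fin 3) F))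
  have h22 : (2 : F)⁻¹ * 2 = 1 := inv_mul_cancel₀ h2
  have hP : P * P = P := by
    show (2 : F)⁻¹ • ((k : Matrix (Fin 3) (Fin 3) F) + 1) * (2 : F)⁻¹ • ((k : Matrix (Fin 3) (Fin 3) F) + 1) =
      (2 : F)⁻¹ • ((k : Matrix (Fin 3) (Fin 3) F) + 1)
    rw [smul_mul_smul_comm, add_mul, mul_add, hkk, mul_one, one_mul]
    match_scalars <;> linear_combination (2 : F)⁻¹ * h22
  have hQ : Q * Q = Q := by
    show (2 : F)⁻¹ • (1 - (k : Matrix (Fin 3) (Fin 3) F)) * (2 : F)⁻¹ • (1 - (k : Matrix (Fin 3) (Fin 3) F)) =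
      (2 : F)⁻¹ • (1 - (k : Matrix (Fin 3) (Fin 3) F))
    simp only [smul_mul_smul_comm, sub_mul, mul_sub, hkk, mul_one, one_mul]
    match_scalars <;> first | linear_combination (2 : F)⁻¹ * h22 | linear_combination -(2 : F)⁻¹ * h22
  have hPQ : Q * P = 0 := by
    show (2 : F)⁻¹ • (1 - (k : Matrix (Fin 3) (Fin 3) F)) * (2 : F)⁻¹ • ((k : Matrix (Fin 3) (Fin 3) F) + 1) = 0
    simp only [smul_mul_smul_comm, sub_mul, mul_add, hkk, mul_one, one_mul]
    module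
  have hkP : (k : Matrix (Fin 3) (Fin 3) F) = (-1 : F) • 1 + (2 : F) • P := by
    show _ = (-1 : F) • 1 + (2 : F) • ((2 : F)⁻¹ • ((k : Matrix (Fin 3) (Fin 3) F) + 1))
    rw [smul_smul, mul_inv_cancel₀ h2]
    module
  have hkQ : (k : Matrix (Fin 3) (Fin 3) F) = (1 : F) • 1 + (-2 : F) • Q := by
    show _ = (1 : F) • 1 + (-2 : F) • ((2 : F)⁻¹ • (1 - (k : Matrix (Fin 3) (Fin 3) F)))
    rw [smul_smul, neg_mul, mul_inv_cancel₀ h2]
    module
  have hdet : (k : Matrix (Fin 3) (Fin 3) F).det = 1 := Matrix.SpecialLinearGroup.det_coe k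
  have hP0 : P ≠ 0 := by
    intro h0
    rw [h0, smul_zero, add_zero] at hkP
    rw [hkP, det_smul, det_one, Fintype.card_fin] at hdet
    apply h2
    linear_combination -hdet
  have hQ0 : Q ≠ 0 := by
    intro h0
    rw [h0, smul_zero, add_zero, one_smul] at hkQ
    exact h1 (sl_ext hkQ)
  have h3 := LinearMap.finrank_range_add_finrank_ker (Matrix.toLin' Q)
  have h4 : LinearMap.range (Matrix.toLin' P) ≤ LinearMap.ker (Matrix.toLin' Q) := by
    rintro _ ⟨w, rfl⟩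
    rw [LinearMap.mem_ker, toLin'_apply, toLin'_apply, mulVec_mulVec, hPQ, zero_mulVec]
  have h5 := Submodule.finrank_mono h4
  rw [Module.finrank_fintype_fun_eq_card, Fintype.card_fin] at h3
  have h6 : Module.finrank F (LinearMap.range (Matrix.toLin' P)) ≤ 1 ∨
      Module.finrank F (LinearMap.range (Matrix.toLin' Q)) ≤ 1 := by omega
  rcases h6 with h6 | h6
  · obtain ⟨a, f, h7, h8⟩ := idem_one hP hP0 h6
    refine ⟨a, f, h7, ?_⟩
    apply sl_ext
    rw [sg_coe, ← h8]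
    exact hkP
  · exfalso
    obtain ⟨a, f, h7, h8⟩ := idem_one hQ hQ0 h6
    have h7' : f 0 * a 0 + f 1 * a 1 + f 2 * a 2 = 1 := by simpa [dotProduct, Fin.sum_univ_three] using h7
    rw [hkQ, h8, det_fin_three] at hdet
    simp only [Matrix.add_apply, Matrix.smul_apply, Matrix.one_apply, vecMulVec_apply, smul_eq_mul] at hdet
    simp at hdet
    apply h2
    linear_combination -hdet - 2 * h7'

/-! ### antiflags in `A` -/

/-- the involution of the antiflag lies in `A` -/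
def IA (A : Subgroup (ProjectiveSpecialLinearGroup (Fin 3) F)) (a f : Fin 3 → F) : Prop :=
  ∃ h : f ⬝ᵥ a = 1, pj F (sg a f h) ∈ A

/-- the fundamental `SL₂` of the antiflag lies in `A` -/
def KA (A : Subgroup (ProjectiveSpecialLinearGroup (Fin 3) F)) (a f : Fin 3 → F) : Prop :=
  ∀ g : SpecialLinearGroup (Fin 3) F, (g : Matrix (Fin 3) (Fin 3) F) *ᵥ a = a →
    f ᵥ* (g : Matrix (Fin 3) (Fin 3) F) = f → pj F g ∈ A

variable {A : Subgroup (ProjectiveSpecialLinearGroup (Fin 3) F)}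
  {Γ : Subgroup (MulAut (ProjectiveSpecialLinearGroup (Fin 3) F))}

theorem IA.conj {a f : Fin 3 → F} (h : IA A a f) {g : SpecialLinearGroup (Fin 3) F} (hg : pj F g ∈ A) :
    IA A ((g : Matrix (Fin 3) (Fin 3) F) *ᵥ a)
      (f ᵥ* ((g⁻¹ : SpecialLinearGroup (Fin 3) F) : Matrix (Fin 3) (Fin 3) F)) := by
  obtain ⟨h1, h3⟩ := h
  refine ⟨(conj_dot g a f).trans h1, ?_⟩
  rw [← sg_conj g h1, map_mul, map_mul, map_inv]
  exact A.mul_mem (A.mul_mem hg h3) (A.inv_mem hg)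

theorem KA.ta {a f : Fin 3 → F} (h : KA A a f) {v φ : Fin 3 → F} (h1 : f ⬝ᵥ v = 0) (h3 : φ ⬝ᵥ a = 0)
    (h4 : φ ⬝ᵥ v = 0) : TA A v φ := by
  refine ⟨h4, h _ ?_ ?_⟩
  · rw [tr_coe, add_mulVec, one_mulVec, vecMulVec_mulVec, h3, MulOpposite.op_zero, zero_smul, add_zero]
  · rw [tr_coe, vecMul_add, vecMul_one, vecMul_vecMulVec, h1, zero_smul, add_zero]

theorem TA.add' {v f f' : Fin 3 → F} (h : TA A v f) (h' : TA A v f') : TA A v (f + f') := by
  obtain ⟨h1, h2⟩ := h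
  obtain ⟨h1', h2'⟩ := h'
  refine ⟨by rw [add_dotProduct, h1, h1', add_zero], ?_⟩
  rw [← tr_mul' h1 h1', map_mul]
  exact A.mul_mem h2 h2'

theorem TA.congr {v f v' f' : Fin 3 → F} (h : TA A v f) (e : vecMulVec v' f' = vecMulVec v f) : TA A v' f' := by
  obtain ⟨h1, h2⟩ := h
  have h3 : f' ⬝ᵥ v' = 0 := by
    have h4 := congrArg Matrix.trace e
    rw [trace_vecMulVec, trace_vecMulVec, dotProduct_comm v' f', dotProduct_comm v f, h1] at h4
    exact h4
  refine ⟨h3, ?_⟩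
  have h5 : tr v' f' h3 = tr v f h1 := by
    apply sl_ext
    rw [tr_coe, tr_coe, e]
  rw [h5]
  exact h2

/-- the general form of `top_of` -/
theorem top_of' (G : SpecialLinearGroup (Fin 3) F)
    (hall : ∀ (i k : Fin 3), i ≠ k → ∀ c : F, TA A ((G : Matrix (Fin 3) (Fin 3) F) *ᵥ (c • Pi.single i 1))
      (Pi.single k 1 ᵥ* ((G⁻¹ : SpecialLinearGroup (Fin 3) F) : Matrix (Fin 3) (Fin 3) F))) : A = ⊤ := by
  have h1 : A.comap (MulAut.conj (pj F G)).toMonoidHom = ⊤ := by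
    apply top_of
    intro i k hik c
    obtain ⟨h3, h4⟩ := hall i k hik c
    have h5 : (Pi.single k 1 : Fin 3 → F) ⬝ᵥ (c • Pi.single i 1) = 0 := (conj_dot G _ _).symm.trans h3
    refine ⟨h5, ?_⟩
    show pj F G * pj F (tr _ _ h5) * (pj F G)⁻¹ ∈ A
    rw [← map_inv, ← map_mul, ← map_mul, tr_conj']
    exact h4
  have h2 := congrArg (Subgroup.map (MulAut.conj (pj F G)).toMonoidHom) h1
  rw [Subgroup.map_comap_eq_self_of_surjective (MulAut.conj (pj F G)).surjective] at h2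
  rw [h2]
  exact Subgroup.map_top_of_surjective _ (MulAut.conj (pj F G)).surjective

/-- two antiflags in general position -/
theorem gp {a f a' f' : Fin 3 → F} (h : KA A a f) (h' : KA A a' f') (h1 : f ⬝ᵥ a = 1) (h1' : f' ⬝ᵥ a' = 1)
    (hne : (f ⬝ᵥ a') * (f' ⬝ᵥ a) ≠ 1) : A = ⊤ := by
  set x := f ⬝ᵥ a' with hx
  set y := f' ⬝ᵥ a with hy
  have hδ : 1 - x * y ≠ 0 := fun h0 => hne (by linear_combination -h0)
  let z : Fin 3 → F := (1 - x * y)⁻¹ • ![f 1 * f' 2 - f 2 * f' 1, f 2 * f' 0 - f 0 * f' 2, f 0 * f' 1 - f 1 * f' 0]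
  have e1 : f 0 * a 0 + f 1 * a 1 + f 2 * a 2 = 1 := by simpa [dotProduct, Fin.sum_univ_three] using h1
  have e2 : f' 0 * a' 0 + f' 1 * a' 1 + f' 2 * a' 2 = 1 := by simpa [dotProduct, Fin.sum_univ_three] using h1'
  have e3 : x = f 0 * a' 0 + f 1 * a' 1 + f 2 * a' 2 := by simp [hx, dotProduct, Fin.sum_univ_three]
  have e4 : y = f' 0 * a 0 + f' 1 * a 1 + f' 2 * a 2 := by simp [hy, dotProduct, Fin.sum_univ_three]
  let G : SpecialLinearGroup (Fin 3) F := ⟨!![a 0, a' 0, z 0; a 1, a' 1, z 1; a 2, a' 2, z 2], by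
    rw [det_fin_three]
    simp [z]
    field_simp
    linear_combination e1 * (f' 0 * a' 0 + f' 1 * a' 1 + f' 2 * a' 2) + e2 +
      e3 * (f' 0 * a 0 + f' 1 * a 1 + f' 2 * a 2) + x * e4⟩
  have hfz : f ⬝ᵥ z = 0 := by
    simp [z, dotProduct, Fin.sum_univ_three]
    ring
  have hfz' : f' ⬝ᵥ z = 0 := by
    simp [z, dotProduct, Fin.sum_univ_three]
    ring
  let p : Fin 3 → Fin 3 → F := fun i => (G : Matrix (Fin 3) (Fin 3) F) *ᵥ Pi.single i 1
  let r : Fin 3 → Fin 3 → F := fun k => Pi.single k 1 ᵥ*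
    ((G⁻¹ : SpecialLinearGroup (Fin 3) F) : Matrix (Fin 3) (Fin 3) F)
  have hp0 : p 0 = a := by
    ext i
    fin_cases i <;> simp [p, G]
  have hp1 : p 1 = a' := by
    ext i
    fin_cases i <;> simp [p, G]
  have hp2 : p 2 = z := by
    ext i
    fin_cases i <;> simp [p, G]
  have hrp : ∀ k i, r k ⬝ᵥ p i = if k = i then 1 else 0 := by
    intro k i
    rw [conj_dot G, single_dotProduct, one_mul, Pi.single_apply]
  have hra : ∀ k, r k ⬝ᵥ a = if k = 0 then 1 else 0 := fun k => by rw [← hp0, hrp]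
  have hra' : ∀ k, r k ⬝ᵥ a' = if k = 1 then 1 else 0 := fun k => by rw [← hp1, hrp]
  have hrz : ∀ k, r k ⬝ᵥ z = if k = 2 then 1 else 0 := fun k => by rw [← hp2, hrp]
  have t21 : ∀ c : F, TA A (c • z) (r 1) := fun c =>
    h.ta (by rw [dotProduct_smul, hfz, smul_zero]) (by rw [hra]; rfl) (by rw [dotProduct_smul, hrz]; simp)
  have t20 : ∀ c : F, TA A (c • z) (r 0) := fun c =>
    h'.ta (by rw [dotProduct_smul, hfz', smul_zero]) (by rw [hra']; rfl) (by rw [dotProduct_smul, hrz]; simp)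
  have s1 : ∀ c : F, TA A (c • (a' - x • a)) (r 2) := fun c =>
    h.ta (by rw [dotProduct_smul, dotProduct_sub, dotProduct_smul, h1, ← hx]; simp) (by rw [hra]; rfl)
      (by rw [dotProduct_smul, dotProduct_sub, dotProduct_smul, hra, hra']; simp)
  have s2 : ∀ c : F, TA A (c • (a - y • a')) (r 2) := fun c =>
    h'.ta (by rw [dotProduct_smul, dotProduct_sub, dotProduct_smul, h1', ← hy]; simp) (by rw [hra']; rfl)
      (by rw [dotProduct_smul, dotProduct_sub, dotProduct_smul, hra, hra']; simp)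
  have t02 : ∀ c : F, TA A (c • a) (r 2) := by
    intro c
    have h3 := (s2 (c * (1 - x * y)⁻¹)).add (s1 (c * (1 - x * y)⁻¹ * y))
    have h4 : (c * (1 - x * y)⁻¹) • (a - y • a') + (c * (1 - x * y)⁻¹ * y) • (a' - x • a) = c • a := by
      match_scalars <;> field_simp <;> ring
    rwa [h4] at h3
  have t12 : ∀ c : F, TA A (c • a') (r 2) := by
    intro c
    have h3 := (s1 (c * (1 - x * y)⁻¹)).add (s2 (c * (1 - x * y)⁻¹ * x))
    have h4 : (c * (1 - x * y)⁻¹) • (a' - x • a) + (c * (1 - x * y)⁻¹ * x) • (a - y • a') = c • a' := by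
      match_scalars <;> field_simp <;> ring
    rwa [h4] at h3
  have t01 : ∀ c : F, TA A (c • a) (r 1) := by
    intro c
    have h3 := (t02 c).comm (t21 1) (by rw [dotProduct_smul, hra]; simp)
    rw [one_smul, hrz] at h3
    simpa using h3
  have t10 : ∀ c : F, TA A (c • a') (r 0) := by
    intro c
    have h3 := (t12 c).comm (t20 1) (by rw [dotProduct_smul, hra']; simp)
    rw [one_smul, hrz] at h3
    simpa using h3
  apply top_of' G
  intro i k hik c
  rw [mulVec_smul]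
  show TA A (c • p i) (r k)
  fin_cases i <;> fin_cases k
  · exact absurd rfl hik
  · show TA A (c • p 0) (r 1)
    rw [hp0]; exact t01 c
  · show TA A (c • p 0) (r 2)
    rw [hp0]; exact t02 c
  · show TA A (c • p 1) (r 0)
    rw [hp1]; exact t10 c
  · exact absurd rfl hik
  · show TA A (c • p 1) (r 2)
    rw [hp1]; exact t12 c
  · show TA A (c • p 2) (r 0)
    rw [hp2]; exact t20 c
  · show TA A (c • p 2) (r 1)
    rw [hp2]; exact t21 c
  · exact absurd rfl hik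

end Cfsg.Agent.H771.IFx
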