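import Cfsg.Agent.H771.IFx.OddA

/-!
# S5719 (helper771): `PSL₃(q)`, `q` odd: the fundamental `SL₂`
-/

set_option autoImplicit false
set_option linter.unusedSectionVars false

namespace Cfsg.Agent.H771.IFx

open Matrix Subgroup Cfsg.Agent.H209.Fxy

variable {F : Type*} [Field F] [Finite F]

/-- a frame for an antiflag -/
theorem exists_frame {a f : Fin 3 → F} (h : f ⬝ᵥ a = 1) :
    ∃ G : SpecialLinearGroup (Fin 3) F, (G : Matrix (Fin 3) (Fin 3) F) *ᵥ Pi.single 0 1 = a ∧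
      Pi.single 0 1 ᵥ* ((G⁻¹ : SpecialLinearGroup (Fin 3) F) : Matrix (Fin 3) (Fin 3) F) = f := by
  obtain ⟨w, hw0, hw1, -⟩ := exists_kill f f
  obtain ⟨i, hi⟩ := exists_ne hw0
  let y : Fin 3 → F := (w i)⁻¹ • Pi.single i 1
  have hy : w ⬝ᵥ y = 1 := by
    simp only [y, dotProduct_smul, dotProduct_single, mul_one, smul_eq_mul]
    exact inv_mul_cancel₀ hi
  have e1 : f 0 * a 0 + f 1 * a 1 + f 2 * a 2 = 1 := by simpa [dotProduct, Fin.sum_univ_three] using h
  have e2 : w 0 * f 0 + w 1 * f 1 + w 2 * f 2 = 0 := by simpa [dotProduct, Fin.sum_univ_three] using hw1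
  have e3 : w 0 * y 0 + w 1 * y 1 + w 2 * y 2 = 1 := by simpa [dotProduct, Fin.sum_univ_three] using hy
  let z : Fin 3 → F := ![f 1 * y 2 - f 2 * y 1, f 2 * y 0 - f 0 * y 2, f 0 * y 1 - f 1 * y 0]
  let G : SpecialLinearGroup (Fin 3) F := ⟨!![a 0, w 0, z 0; a 1, w 1, z 1; a 2, w 2, z 2], by
    rw [det_fin_three]
    simp [z]
    linear_combination e1 * (w 0 * y 0 + w 1 * y 1 + w 2 * y 2) + e3 - e2 * (a 0 * y 0 + a 1 * y 1 + a 2 * y 2)⟩
  have hGc : (G : Matrix (Fin 3) (Fin 3) F) = !![a 0, w 0, z 0; a 1, w 1, z 1; a 2, w 2, z 2] := rfl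
  refine ⟨G, ?_, ?_⟩
  · ext i
    fin_cases i <;> simp [hGc]
  · have h1 : f ᵥ* (G : Matrix (Fin 3) (Fin 3) F) = Pi.single 0 1 := by
      ext i
      fin_cases i
      · simp [hGc, vecMul, dotProduct, Fin.sum_univ_three]
        linear_combination e1
      · simp [hGc, vecMul, dotProduct, Fin.sum_univ_three]
        linear_combination e2
      · simp [hGc, vecMul, dotProduct, Fin.sum_univ_three, z]
        ring
    rw [← h1, vecMul_vecMul, ← Matrix.SpecialLinearGroup.coe_mul, mul_inv_cancel, Matrix.SpecialLinearGroup.coe_one,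
      vecMul_one]

/-- `SL₂` as a subgroup of `SL₃` -/
def dg : SpecialLinearGroup (Fin 2) F →* SpecialLinearGroup (Fin 3) F where
  toFun M := ⟨!![1, 0, 0; 0, (M : Matrix (Fin 2) (Fin 2) F) 0 0, (M : Matrix (Fin 2) (Fin 2) F) 0 1;
    0, (M : Matrix (Fin 2) (Fin 2) F) 1 0, (M : Matrix (Fin 2) (Fin 2) F) 1 1], by
    have h := Matrix.SpecialLinearGroup.det_coe M
    rw [det_fin_two] at h
    rw [det_fin_three]
    simp
    linear_combination h⟩
  map_one' := by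
    apply sl_ext
    ext i j
    fin_cases i <;> fin_cases j <;> simp
  map_mul' M N := by
    apply sl_ext
    refine Eq.trans ?_ (Matrix.SpecialLinearGroup.coe_mul _ _).symm
    ext i j
    fin_cases i <;> fin_cases j <;>
      simp [Matrix.SpecialLinearGroup.coe_mul, Matrix.mul_apply, Fin.sum_univ_three, Fin.sum_univ_two]

theorem dg_coe (M : SpecialLinearGroup (Fin 2) F) : ((dg M : SpecialLinearGroup (Fin 3) F) : Matrix (Fin 3) (Fin 3) F) =
  !![1, 0, 0; 0, (M : Matrix (Fin 2) (Fin 2) F) 0 0, (M : Matrix (Fin 2) (Fin 2) F) 0 1;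
    0, (M : Matrix (Fin 2) (Fin 2) F) 1 0, (M : Matrix (Fin 2) (Fin 2) F) 1 1] := rfl

theorem dg_left (M : SpecialLinearGroup (Fin 2) F) :
    ((dg M : SpecialLinearGroup (Fin 3) F) : Matrix (Fin 3) (Fin 3) F) *ᵥ Pi.single 0 1 = Pi.single 0 1 := by
  rw [dg_coe]
  ext i
  fin_cases i <;> simp

theorem dg_right (M : SpecialLinearGroup (Fin 2) F) :
    Pi.single 0 1 ᵥ* ((dg M : SpecialLinearGroup (Fin 3) F) : Matrix (Fin 3) (Fin 3) F) = Pi.single 0 1 := by
  rw [dg_coe]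
  ext i
  fin_cases i <;> simp

theorem exists_dg {g : SpecialLinearGroup (Fin 3) F}
    (h1 : (g : Matrix (Fin 3) (Fin 3) F) *ᵥ Pi.single 0 1 = Pi.single 0 1)
    (h2 : Pi.single 0 1 ᵥ* (g : Matrix (Fin 3) (Fin 3) F) = Pi.single 0 1) : ∃ M, dg M = g := by
  have a0 := congrFun h1 0
  have a1 := congrFun h1 1
  have a2 := congrFun h1 2
  have b1 := congrFun h2 1
  have b2 := congrFun h2 2
  simp at a0 a1 a2 b1 b2
  have hd := Matrix.SpecialLinearGroup.det_coe g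
  rw [det_fin_three] at hd
  refine ⟨⟨!![(g : Matrix (Fin 3) (Fin 3) F) 1 1, (g : Matrix (Fin 3) (Fin 3) F) 1 2;
    (g : Matrix (Fin 3) (Fin 3) F) 2 1, (g : Matrix (Fin 3) (Fin 3) F) 2 2], ?_⟩, ?_⟩
  · rw [det_fin_two]
    simp
    rw [a0, a1, a2, b1, b2] at hd
    linear_combination hd
  · apply sl_ext
    refine (dg_coe _).trans ?_
    ext i j
    fin_cases i <;> fin_cases j <;> simp [a0, a1, a2, b1, b2]

variable {A : Subgroup (ProjectiveSpecialLinearGroup (Fin 3) F)}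
  {Γ : Subgroup (MulAut (ProjectiveSpecialLinearGroup (Fin 3) F))}

theorem fix_inv_left {g : SpecialLinearGroup (Fin 3) F} {a : Fin 3 → F} (h : (g : Matrix (Fin 3) (Fin 3) F) *ᵥ a = a) :
    ((g⁻¹ : SpecialLinearGroup (Fin 3) F) : Matrix (Fin 3) (Fin 3) F) *ᵥ a = a := by
  conv_lhs => rw [← h]
  rw [mulVec_mulVec, ← Matrix.SpecialLinearGroup.coe_mul, inv_mul_cancel, Matrix.SpecialLinearGroup.coe_one, one_mulVec]

theorem fix_inv_right {g : SpecialLinearGroup (Fin 3) F} {f : Fin 3 → F}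
    (h : f ᵥ* (g : Matrix (Fin 3) (Fin 3) F) = f) :
    f ᵥ* ((g⁻¹ : SpecialLinearGroup (Fin 3) F) : Matrix (Fin 3) (Fin 3) F) = f := by
  conv_lhs => rw [← h]
  rw [vecMul_vecMul, ← Matrix.SpecialLinearGroup.coe_mul, mul_inv_cancel, Matrix.SpecialLinearGroup.coe_one, vecMul_one]

/-- **the fundamental `SL₂`** -/
theorem IA.ka [Fintype F] (h2 : (2 : F) ≠ 0) (ho : Odd (Fintype.card F)) (h5 : 5 ≤ Fintype.card F) (h : IF A Γ)
    {a f : Fin 3 → F} (ha : IA A a f) : KA A a f := by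
  obtain ⟨haf, hA⟩ := ha
  have hfin := fin3 (F := F)
  have hsimp := simple3 (F := F)
  obtain ⟨G, hG1, hG2⟩ := exists_frame haf
  have hG2' : f ᵥ* (G : Matrix (Fin 3) (Fin 3) F) = Pi.single 0 1 := by
    rw [← hG2, vecMul_vecMul, ← Matrix.SpecialLinearGroup.coe_mul, inv_mul_cancel, Matrix.SpecialLinearGroup.coe_one,
      vecMul_one]
  have hG1' : ((G⁻¹ : SpecialLinearGroup (Fin 3) F) : Matrix (Fin 3) (Fin 3) F) *ᵥ a = Pi.single 0 1 := by
    rw [← hG1, mulVec_mulVec, ← Matrix.SpecialLinearGroup.coe_mul, inv_mul_cancel, Matrix.SpecialLinearGroup.coe_one,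
      one_mulVec]
  let φ : SpecialLinearGroup (Fin 2) F →* ProjectiveSpecialLinearGroup (Fin 3) F :=
    (pj F).comp ((MulAut.conj G).toMonoidHom.comp dg)
  have hφ : ∀ M, φ M = pj F (G * dg M * G⁻¹) := fun M => rfl
  have hfix1 : ∀ M : SpecialLinearGroup (Fin 2) F,
      ((G * dg M * G⁻¹ : SpecialLinearGroup (Fin 3) F) : Matrix (Fin 3) (Fin 3) F) *ᵥ a = a := by
    intro M
    rw [Matrix.SpecialLinearGroup.coe_mul, Matrix.SpecialLinearGroup.coe_mul, ← mulVec_mulVec, hG1', ← mulVec_mulVec,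
      dg_left, hG1]
  have hfix2 : ∀ M : SpecialLinearGroup (Fin 2) F,
      f ᵥ* ((G * dg M * G⁻¹ : SpecialLinearGroup (Fin 3) F) : Matrix (Fin 3) (Fin 3) F) = f := by
    intro M
    rw [Matrix.SpecialLinearGroup.coe_mul, Matrix.SpecialLinearGroup.coe_mul, ← vecMul_vecMul, ← vecMul_vecMul, hG2',
      dg_right, hG2]
  have hle : φ.range ≤ centralizer ({pj F (sg a f haf)} : Set (ProjectiveSpecialLinearGroup (Fin 3) F)) := by
    rintro _ ⟨M, rfl⟩
    rw [mem_centralizer_singleton_iff, hφ, ← map_mul, ← map_mul]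
    congr 1
    rw [← mul_inv_eq_iff_eq_mul]
    have h3 := sg_conj (G * dg M * G⁻¹) haf
    rw [h3]
    apply sl_ext
    rw [sg_coe, sg_coe, hfix1, fix_inv_right (hfix2 M)]
  obtain ⟨-, -, -, -, hE⟩ := Cfsg.Agent.H999.IFB.IF.E2' h nonab3 hA (sg_order h2 haf)
  have h3 := (hE φ.range hle).1
  have h4 := index_le' (ne_zero_of_dot haf).1 (sg_coe a f haf)
  rw [Nat.card_eq_fintype_card] at h4
  have h6 : A.comap φ = ⊤ := by
    apply idx_top ho h5
    rw [Subgroup.index_comap]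
    exact lt_of_lt_of_le h3 h4
  intro g hg1 hg2
  obtain ⟨M, hM⟩ := exists_dg (g := G⁻¹ * g * G) (by
      rw [Matrix.SpecialLinearGroup.coe_mul, Matrix.SpecialLinearGroup.coe_mul, ← mulVec_mulVec, hG1, ← mulVec_mulVec,
        hg1, hG1']) (by
      rw [Matrix.SpecialLinearGroup.coe_mul, Matrix.SpecialLinearGroup.coe_mul, ← vecMul_vecMul, ← vecMul_vecMul, hG2,
        hg2, hG2'])
  have h7 : M ∈ A.comap φ := by rw [h6]; trivial
  have h8 : φ M ∈ A := h7
  rw [hφ, hM] at h8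
  have h9 : G * (G⁻¹ * g * G) * G⁻¹ = g := by group
  rwa [h9] at h8

/-- `q ≥ 5` -/
theorem IA.five [Fintype F] (h2 : (2 : F) ≠ 0) (ho : Odd (Fintype.card F)) (h : IF A Γ) {a f : Fin 3 → F}
    (ha : IA A a f) : 5 ≤ Fintype.card F := by
  obtain ⟨haf, hA⟩ := ha
  have hfin := fin3 (F := F)
  have hsimp := simple3 (F := F)
  by_contra hcon
  have h3 : Fintype.card F = 3 := by
    have h4 : 1 < Fintype.card F := Fintype.one_lt_card
    obtain ⟨m, hm⟩ := ho
    omega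
  obtain ⟨-, -, -, hi, -⟩ := Cfsg.Agent.H999.IFB.IF.E2' h nonab3 hA (sg_order h2 haf)
  have h4 := index_le' (ne_zero_of_dot haf).1 (sg_coe a f haf)
  rw [Nat.card_eq_fintype_card, h3] at h4
  have h6 := Nat.pow_le_pow_left h.big.le 5
  generalize (centralizer ({pj F (sg a f haf)} : Set (ProjectiveSpecialLinearGroup (Fin 3) F))).index = c at hi h4
  have h5 := Nat.pow_le_pow_left h4 6
  norm_num at h5 h6
  omega

end Cfsg.Agent.H771.IFx
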